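import Groth.Agent.FittLib.Props
import Groth.Agent.FittLib.Local
import Groth.Agent.FlatOverBC.Free
import Groth.Agent.QCohBase.CohProps
import Groth.Agent.AssPts.Basic

/-!
# The Fitting ideal sheaf has the Fitting ideals of the sections as values
-/

set_option autoImplicit false

noncomputable section

universe u

open CategoryTheory AlgebraicGeometry Opposite TopologicalSpace
open scoped TensorProduct

namespace Groth.Agent.FittSheaf

variable {X : Scheme.{u}} (F : X.Modules)

/-- Fitting ideals of sections commute with restriction to basic opens. -/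
theorem map_ideal (hF : Coh.IsQCoh F) (hft : CohB1.IsFT F) (r : ℕ) (U : X.affineOpens) (f : Γ(X, U.1)) :
    (Fitt.ideal Γ(X, U.1) Γ(F, U.1) r).map (X.presheaf.map (homOfLE <| X.basicOpen_le f).op).hom =
      Fitt.ideal Γ(X, X.basicOpen f) Γ(F, X.basicOpen f) r := by
  haveI : F.IsQuasicoherent := hF
  haveI : Module.Finite Γ(X, U.1) Γ(F, U.1) := QCohBase.isFiniteType_toFinite ⟨hF, hft⟩ U.2
  letI : Algebra Γ(X, U.1) Γ(X, X.basicOpen f) := (QCohBase.ores (X.basicOpen_le f)).toAlgebra
  haveI : IsLocalization.Away f Γ(X, X.basicOpen f) := U.2.isLocalization_basicOpen f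
  letI : Module Γ(X, U.1) Γ(F, X.basicOpen f) := Module.compHom _ (QCohBase.ores (X.basicOpen_le f))
  haveI : IsScalarTower Γ(X, U.1) Γ(X, X.basicOpen f) Γ(F, X.basicOpen f) :=
    .of_algebraMap_smul fun _ _ => rfl
  haveI hl := FlatOverBC.isLocalizedModule_mres F U.2 f
  let e := (IsLocalizedModule.isBaseChange (Submonoid.powers f) Γ(X, X.basicOpen f)
    ({ toFun := QCohBase.mres F (X.basicOpen_le f)
       map_add' := map_add _
       map_smul' := QCohBase.mres_smul F (X.basicOpen_le f) } : Γ(F, U.1) →ₗ[Γ(X, U.1)] Γ(F, X.basicOpen f))).equiv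
  rw [← FittLib.ideal_congr e r, FittLib.baseChange r]
  rfl

/-- The values of the Fitting ideal sheaf. -/
theorem ideal_eq (hF : Coh.IsQCoh F) (hft : CohB1.IsFT F) (r : ℕ) (U : X.affineOpens) :
    (Fitt.sheafIdeal F r).ideal U = Fitt.ideal Γ(X, U.1) Γ(F, U.1) r := by
  let J : X.IdealSheafData :=
    { ideal := fun V => Fitt.ideal Γ(X, V.1) Γ(F, V.1) r
      map_ideal_basicOpen := fun V f => map_ideal F hF hft r V f }
  exact le_antisymm (Scheme.IdealSheafData.ideal_ofIdeals_le _ U)
    ((Scheme.IdealSheafData.le_ofIdeals_iff.2 (le_refl J.ideal) : J ≤ _) U)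

/-- Membership in the support, read on an affine neighbourhood. -/
theorem mem_support_iff (hF : Coh.IsQCoh F) (hft : CohB1.IsFT F) (r : ℕ) (U : X.affineOpens) (x : X)
    (hx : x ∈ U.1) :
    x ∈ (Fitt.sheafIdeal F r).support ↔
      Fitt.ideal Γ(X, U.1) Γ(F, U.1) r ≤ (U.2.primeIdealOf ⟨x, hx⟩).asIdeal := by
  rw [← ideal_eq F hF hft r U]
  show x ∈ (Fitt.sheafIdeal F r).supportSet ↔ _
  rw [Scheme.IdealSheafData.mem_supportSet_iff_of_mem hx, Scheme.mem_zeroLocus_iff]
  refine forall_congr' fun a => forall_congr' fun _ => ?_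
  rw [X.mem_basicOpen a x hx, ← AssPts.notMem_prime_iff U.2 x hx a, not_not]

end Groth.Agent.FittSheaf
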